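import Mathlib

/-!
# Affine Zariski coverings of cofinite inverse systems of schemes
-/

universe v u

open CategoryTheory CategoryTheory.Limits AlgebraicGeometry TopologicalSpace Opposite

noncomputable section

set_option backward.isDefEq.respectTransparency false
set_option backward.isDefEq.respectTransparency.types false

namespace Groth.Agent.H4Cof

variable {Λ : Type v} [PartialOrder Λ] (hΛ : ∀ l : Λ, (Set.Iic l).Finite) (X : Λᵒᵖ ⥤ Scheme.{u})

/-- A transition map. -/
abbrev tr {l m : Λ} (h : m ≤ l) : X.obj (op l) ⟶ X.obj (op m) := X.map (homOfLE h).op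

theorem tr_refl (l : Λ) : tr X (le_refl l) = 𝟙 _ := by
  rw [tr, show (homOfLE (le_refl l)).op = 𝟙 (op l) from Subsingleton.elim _ _]; exact X.map_id _

theorem tr_comp {l m k : Λ} (h : m ≤ l) (h' : k ≤ m) : tr X h ≫ tr X h' = tr X (h'.trans h) := by
  rw [tr, tr, ← X.map_comp]; rfl

/-- Finite open covers at all the levels. -/
structure Data where
  ι : Λ → Type u
  fin : ∀ l, Finite (ι l)
  U : ∀ l, ι l → (X.obj (op l)).Opens
  cover : ∀ l (x : X.obj (op l)), ∃ i, x ∈ U l i

variable {X} (D : Data X)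

/-- Families of members of the covers below an index. -/
abbrev T (l : Λ) : Type (max v u) := ∀ i : Set.Iic l, D.ι i.1

include hΛ in
theorem finite_T (l : Λ) : Finite (T D l) := by
  haveI : Finite (Set.Iic l) := (hΛ l).to_subtype
  haveI : ∀ i : Set.Iic l, Finite (D.ι i.1) := fun i => D.fin _
  infer_instance

/-- The open of a family. -/
def W (l : Λ) (t : T D l) : (X.obj (op l)).Opens := ⨅ i : Set.Iic l, tr X i.2 ⁻¹ᵁ D.U i.1 (t i)

/-- Restriction of families. -/
def res {l m : Λ} (h : m ≤ l) (t : T D l) : T D m := fun i => t ⟨i.1, le_trans i.2 h⟩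

theorem W_le {l m : Λ} (h : m ≤ l) (t : T D l) : W D l t ≤ tr X h ⁻¹ᵁ D.U m (t ⟨m, h⟩) := iInf_le (fun i : Set.Iic l => tr X i.2 ⁻¹ᵁ D.U i.1 (t i)) ⟨m, h⟩

theorem W_le_self (l : Λ) (t : T D l) : W D l t ≤ D.U l (t ⟨l, le_refl l⟩) := by
  refine (W_le D (le_refl l) t).trans ?_
  rw [tr_refl]; rfl

include hΛ in
theorem mem_W {l : Λ} {t : T D l} {x : X.obj (op l)} (hx : ∀ i : Set.Iic l, tr X i.2 x ∈ D.U i.1 (t i)) :
    x ∈ W D l t := by
  haveI : Finite (Set.Iic l) := (hΛ l).to_subtype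
  show x ∈ (W D l t : Set (X.obj (op l)))
  rw [W, Opens.coe_iInf]
  exact Set.mem_iInter.2 hx

include hΛ in
theorem W_le_res {l m : Λ} (h : m ≤ l) (t : T D l) : W D l t ≤ tr X h ⁻¹ᵁ W D m (res D h t) := by
  intro x hx
  refine mem_W hΛ D fun i => ?_
  rw [← Scheme.Hom.comp_apply, tr_comp]
  exact W_le D (le_trans i.2 h) t hx

variable [∀ l, Small.{u} (T D l)]

/-- The covering object. -/
def obj (l : Λ) : Scheme.{u} := ∐ fun t : T D l => (W D l t).toScheme

/-- A component of the covering object. -/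
def inj (l : Λ) (t : T D l) : (W D l t).toScheme ⟶ obj D l :=
  Sigma.ι (fun t : T D l => (W D l t).toScheme) t

instance (l : Λ) (t : T D l) : IsOpenImmersion (inj D l t) := by
  dsimp [inj]; infer_instance

/-- The covering map. -/
def proj (l : Λ) : obj D l ⟶ X.obj (op l) := Sigma.desc fun t : T D l => (W D l t).ι

theorem inj_proj (l : Λ) (t : T D l) : inj D l t ≫ proj D l = (W D l t).ι := Sigma.ι_desc _ _

theorem hom_ext {l : Λ} {Z : Scheme.{u}} {a b : obj D l ⟶ Z} (h : ∀ t, inj D l t ≫ a = inj D l t ≫ b) : a = b :=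
  Sigma.hom_ext _ _ h

theorem eq_of_proj {Z : Scheme.{u}} {l : Λ} {s s' : T D l} (e : s = s') (a : Z ⟶ (W D l s).toScheme)
    (b : Z ⟶ (W D l s').toScheme) (h : a ≫ (W D l s).ι = b ≫ (W D l s').ι) :
    a ≫ inj D l s = b ≫ inj D l s' := by
  subst e
  rw [(cancel_mono _).1 h]

include hΛ in
/-- The covering system exists. -/
theorem exists_system : ∃ (Y : Λᵒᵖ ⥤ Scheme.{u}) (π : Y ⟶ X) (e : ∀ l, Y.obj (op l) = obj D l),
    ∀ l, π.app (op l) = eqToHom (e l) ≫ proj D l := by
  let mp : ∀ {a b : Λᵒᵖ}, (a ⟶ b) → (obj D a.unop ⟶ obj D b.unop) := fun {a b} g =>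
    Sigma.desc fun t : T D a.unop =>
      (tr X (leOfHom g.unop)).resLE _ _ (W_le_res hΛ D (leOfHom g.unop) t) ≫ inj D b.unop (res D (leOfHom g.unop) t)
  have inj_mp : ∀ {a b : Λᵒᵖ} (g : a ⟶ b) (t : T D a.unop), inj D a.unop t ≫ mp g =
      (tr X (leOfHom g.unop)).resLE _ _ (W_le_res hΛ D (leOfHom g.unop) t) ≫ inj D b.unop (res D (leOfHom g.unop) t) :=
    fun g t => Sigma.ι_desc _ _
  let Y : Λᵒᵖ ⥤ Scheme.{u} :=
    { obj := fun a => obj D a.unop
      map := mp
      map_id := fun a => hom_ext D fun t => by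
        rw [inj_mp (𝟙 a) t, Category.comp_id, ← Category.id_comp (inj D a.unop t)]
        refine eq_of_proj D rfl _ _ ?_
        rw [Scheme.Hom.resLE_comp_ι, tr_refl, Category.comp_id, Category.id_comp]
        rfl
      map_comp := fun {a b c} g g' => hom_ext D fun t => by
        rw [inj_mp (g ≫ g') t, reassoc_of% inj_mp g t, inj_mp g', ← Category.assoc]
        refine eq_of_proj D rfl _ _ ?_
        refine (Scheme.Hom.resLE_comp_ι _ _).trans (Eq.symm ?_)
        refine (Category.assoc _ _ _).trans ?_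
        refine (congrArg (_ ≫ ·) (Scheme.Hom.resLE_comp_ι _ _)).trans ?_
        refine ((Category.assoc _ _ _).symm.trans (congrArg (· ≫ _) (Scheme.Hom.resLE_comp_ι _ _))).trans ?_
        rw [Category.assoc, tr_comp] }
  refine ⟨Y, { app := fun a => proj D a.unop, naturality := fun a b g => hom_ext D fun t => ?_ },
    fun l => rfl, fun l => (Category.id_comp _).symm⟩
  show inj D a.unop t ≫ mp g ≫ proj D b.unop = inj D a.unop t ≫ proj D a.unop ≫ X.map g
  rw [reassoc_of% inj_mp g t, inj_proj, Scheme.Hom.resLE_comp_ι, reassoc_of% inj_proj D a.unop t]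
  rfl

include hΛ in
theorem surjective_proj (l : Λ) : Surjective (proj D l) := by
  constructor
  intro x
  choose t ht using fun i : Set.Iic l => D.cover i.1 (tr X i.2 x)
  exact ⟨inj D l t ⟨x, mem_W hΛ D ht⟩, by rw [← Scheme.Hom.comp_apply, inj_proj]; rfl⟩

theorem exists_inj {l : Λ} (y : obj D l) : ∃ t, y ∈ (inj D l t).opensRange := by
  obtain ⟨i, z, hz⟩ := (sigmaOpenCover (fun t : T D l => (W D l t).toScheme)).exists_eq y
  exact ⟨i, z, hz⟩

include hΛ in
/-- When all members are inside affine opens the covering object is separated. -/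
theorem isSeparated_obj (hU : ∀ l i, IsAffineOpen (D.U l i)) (l : Λ) : (obj D l).IsSeparated := by
  haveI := finite_T hΛ D l
  let A := fun t : T D l => (D.U l (t ⟨l, le_refl l⟩)).toScheme
  haveI : ∀ t, IsAffine (A t) := fun t => hU _ _
  let j : obj D l ⟶ ∐ A := Sigma.desc fun t => (X.obj (op l)).homOfLE (W_le_self D l t) ≫ Sigma.ι A t
  haveI : IsOpenImmersion j := isOpenImmersion_sigmaDesc _ _ fun a b hab => by
    have h := disjoint_opensRange_sigmaι A a b hab
    rw [← Opens.coe_disjoint] at h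
    refine h.mono ?_ ?_ <;>
    · rintro _ ⟨y, rfl⟩
      exact ⟨_, (Scheme.Hom.comp_apply _ _ y).symm⟩
  constructor
  rw [show terminal.from (obj D l) = j ≫ terminal.from (∐ A) from terminal.hom_ext _ _]
  infer_instance

/-- Intersections of preimages of affines in separated levels are affine. -/
theorem isAffineOpen_W [∀ l, (X.obj (op l)).IsSeparated] (hΛ : ∀ l : Λ, (Set.Iic l).Finite)
    (hU : ∀ l i, IsAffineOpen (D.U l i)) (l : Λ) (t : T D l) : IsAffineOpen (W D l t) := by
  haveI : Finite (Set.Iic l) := (hΛ l).to_subtype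
  let V := D.U l (t ⟨l, le_refl l⟩)
  have hV : IsAffineOpen V := hU _ _
  have e : W D l t = ⨅ i : Set.Iic l, V ⊓ tr X i.2 ⁻¹ᵁ D.U i.1 (t i) :=
    le_antisymm (le_iInf fun i => le_inf (W_le_self D l t) (iInf_le _ i)) (iInf_mono fun i => inf_le_right)
  rw [e]
  haveI : Nonempty (Set.Iic l) := ⟨⟨l, le_refl l⟩⟩
  refine IsAffineOpen.iInf fun i => ?_
  haveI : IsAffine V.toScheme := hV
  haveI : IsAffineHom ((V.ι ≫ tr X i.2) ≫ terminal.from (X.obj (op i.1))) := isAffineHom_of_isAffine _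
  haveI : IsAffineHom (V.ι ≫ tr X i.2) := IsAffineHom.of_comp _ (terminal.from (X.obj (op i.1)))
  have h := ((hU i.1 (t i)).preimage (V.ι ≫ tr X i.2)).image_of_isOpenImmersion V.ι
  rwa [Scheme.Hom.comp_preimage, Scheme.Hom.image_preimage_eq_opensRange_inf, Scheme.Opens.opensRange_ι] at h

/-- In qcqs levels, members of compact covers give compact intersections. -/
theorem isCompact_W [∀ l, CompactSpace ↥(X.obj (op l))] [∀ l, QuasiSeparatedSpace ↥(X.obj (op l))]
    (hΛ : ∀ l : Λ, (Set.Iic l).Finite) (hU : ∀ l i, IsAffineOpen (D.U l i)) (l : Λ) (t : T D l) :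
    IsCompact (W D l t : Set (X.obj (op l))) := by
  haveI : Finite (Set.Iic l) := (hΛ l).to_subtype
  have hc : ∀ i : Set.Iic l, IsCompact ((tr X i.2 ⁻¹ᵁ D.U i.1 (t i) : (X.obj (op l)).Opens) : Set (X.obj (op l))) := fun i => by
    haveI : QuasiCompact (tr X i.2) := (quasiCompact_iff_compactSpace _).2 inferInstance
    exact Scheme.Hom.isCompact_preimage _ (hU _ _).isCompact
  rw [W, Opens.coe_iInf]
  exact QuasiSeparatedSpace.isCompact_sInter (Set.finite_range _)
    (by rintro _ ⟨i, rfl⟩; exact Or.inl (Opens.isOpen _)) (by rintro _ ⟨i, rfl⟩; exact hc i)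

theorem compactSpace_obj [∀ l, CompactSpace ↥(X.obj (op l))] [∀ l, QuasiSeparatedSpace ↥(X.obj (op l))]
    (hΛ : ∀ l : Λ, (Set.Iic l).Finite) (hU : ∀ l i, IsAffineOpen (D.U l i)) (l : Λ) :
    CompactSpace ↥(obj D l) := by
  haveI := finite_T hΛ D l
  haveI : ∀ t : T D l, CompactSpace ↥(W D l t).toScheme := fun t =>
    isCompact_iff_compactSpace.mp (isCompact_W D hΛ hU l t)
  refine ⟨?_⟩
  have e : (Set.univ : Set ↥(obj D l)) = ⋃ t, Set.range (inj D l t) := by
    refine (Set.eq_univ_of_forall fun y => ?_).symm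
    obtain ⟨t, ht⟩ := exists_inj D y
    exact Set.mem_iUnion.2 ⟨t, ht⟩
  rw [e]
  exact isCompact_iUnion fun t => isCompact_range (inj D l t).continuous

end Groth.Agent.H4Cof
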